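import Cfsg.Agent.Chev.TwSub.Final
import Cfsg.Agent.Steinberg.Linear

/-! The subfield points of ³D₄ are maximal. -/

set_option autoImplicit false

open Cfsg.Lie Cfsg.Lib.Steinberg
open scoped commutatorElement

namespace Cfsg.Lib.TwSub.D4

open Cfsg.Lib.Chev

theorem single_ok : okSingle D4.tw chevD4 = true := by decide +kernel

theorem top_ok : okTop D4.tw 2 [17, 20, 21] = true := by decide +kernel

theorem step_ok : okStep D4.tw chevD4 D4.cert D4.htTab 0 [18, 13, 12] [(18, 1, 19, -1)] = true := by decide +kernel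

theorem asc1 : okAsc chevD4 D4.htTab (kmap D4.cert.sr (D4.tw.orbAt 0)) 2 17 [(15, -1), (16, -1)] = true := by
  decide +kernel

theorem co_ok : ksumI (kmap (fun i => D4.cert.cart i 17) (D4.tw.orbAt 0)) = 1 := by decide +kernel

theorem eps_ok : D4.tw.G.eps chevD4.rank 18 = 1 ∧ D4.tw.G.eps chevD4.rank 13 = 1 ∧
    D4.tw.G.eps chevD4.rank 15 = -1 ∧ D4.tw.G.eps chevD4.rank 19 = -1 := by decide +kernel

theorem sgn_ok : D4.cert.sgnL [1] 18 = 1 ∧ D4.cert.sgnL [1] 13 = -1 ∧ D4.cert.sgnL [1] 12 = -1 ∧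
    D4.cert.wL [1] 18 = 19 ∧ D4.cert.wL [1] 13 = 16 ∧ D4.cert.wL [1] 12 = 15 ∧ D4.tw.orbAt 1 = [1] := by
  decide +kernel

theorem word_down : D4.cert.wL (D4.tw.flat [1, 0]) 17 = 18 ∧
    (D4.cert.sgnL (D4.tw.flat [1, 0]) 17).natAbs = 1 ∧
    ([17, 20, 21].map (D4.cert.wL (D4.tw.flat [1, 0]))).Perm [18, 13, 12] := by decide +kernel

theorem word_up : ((kmap D4.cert.sr (D4.tw.orbAt 0)).map (D4.cert.wL (D4.tw.flat [0, 1]))).Perm [17, 20, 21] ∧
    (D4.tw.orbAt 1).length = 1 ∧ D4.tw.nO = 2 := by decide +kernel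

theorem terms : chevD4.commTerms 14 18 = [(19, 1, 1, 1)] ∧ chevD4.commTerms 14 13 = [(16, -1, 1, 1)] ∧
    chevD4.commTerms 14 12 = [(15, -1, 1, 1)] ∧ chevD4.commTerms 18 16 = [(21, -1, 1, 1)] ∧
    chevD4.commTerms 13 15 = [(17, 1, 1, 1)] ∧ chevD4.commTerms 18 15 = [(20, -1, 1, 1)] ∧
    chevD4.commTerms 18 17 = [(22, -1, 1, 1)] := by
  refine ⟨?_, ?_, ?_, ?_, ?_, ?_, ?_⟩ <;> decide +kernel

theorem comms : TwDat.commOK chevD4 18 19 = true ∧ TwDat.commOK chevD4 13 16 = true ∧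
    TwDat.commOK chevD4 12 15 = true ∧ chevD4.neg 14 = 9 ∧ chevD4.neg 18 = 5 ∧ chevD4.neg 13 = 10 ∧
    chevD4.nroots = 24 := by decide +kernel

theorem hts : TwDat.hsum chevD4 D4.htTab 15 = 2 ∧ TwDat.hsum chevD4 D4.htTab 17 = 3 ∧
    TwDat.hsum chevD4 D4.htTab 20 = 3 ∧ TwDat.hsum chevD4 D4.htTab 21 = 3 ∧
    TwDat.hsum chevD4 D4.htTab 22 = 4 ∧ fixb D4.tw chevD4 14 = true := by decide +kernel

variable {K : Type*} [Field K] (X : Tw chevD4 chevG2 D4.cert G2.cert D4.tw D4.htTab K)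
  {H : Subgroup (GL chevD4.Idx K)}

theorem step1 (hle : H ≤ X.G1) (hrat : ∀ g ∈ X.G1, phiG X.f chevD4 g = g → g ∈ H)
    (hc : [15, 19, 16] ∈ X.lev 1) {u : GL chevD4.Idx K} (hu : u ∈ H)
    (hU : u ∈ X.S.Uh D4.htTab K ((1 : ℕ) + 1)) (hirr : X.f (X.cf u 15) ≠ X.cf u 15) :
    ∃ r, r < chevD4.nroots ∧ hgt chevD4 D4.htTab r = ((1 : ℕ) : ℤ) + 2 ∧
      ∃ v ∈ H, v ∈ X.S.Uh D4.htTab K ((1 : ℕ) + 2) ∧ X.f (X.cf v r) ≠ X.cf v r := by
  have ha : 0 < D4.tw.nO := by rw [word_up.2.2]; norm_num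
  obtain ⟨h1, h2, h3, h4⟩ := asc_spec X ha (h := 2) (by norm_num) asc1 (u := u) (by
    convert hU using 2; norm_num)
  obtain ⟨g1, g2⟩ := gP_one_rat X ha
  have hg := hrat _ g1 g2
  refine ⟨17, h1, by rw [h2]; norm_num, ⁅u, X.gP 0 fun _ => 1⁆, ?_, by convert h3 using 2; norm_num, ?_⟩
  · rw [commutatorElement_def]
    exact mul_mem (mul_mem (mul_mem hu hg) (inv_mem hu)) (inv_mem hg)
  rw [h4]
  set t := X.cf u 15 with ht
  obtain ⟨hall, horb⟩ := cf_allowed hle hc hu hU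
  have e16 : X.cf u 16 = X.f (X.f t) := by
    have hmem : (16, X.cf u 16) ∈ X.orbW [15, 19, 16] (X.cf u ([15, 19, 16].headD 0)) := by
      rw [horb]; exact List.mem_map.2 ⟨16, by simp, rfl⟩
    have e15 : X.eps 15 = -1 := show ((D4.tw.G.eps chevD4.rank 15 : ℤ) : K) = -1 by rw [eps_ok.2.2.1]; simp
    have e19 : X.eps 19 = -1 := show ((D4.tw.G.eps chevD4.rank 19 : ℤ) : K) = -1 by rw [eps_ok.2.2.2]; simp
    simp only [Tw.orbW, List.headD_cons, List.mem_cons, Prod.mk.injEq, List.not_mem_nil, or_false,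
      false_and, false_or, Nat.reduceEqDiff, true_and, e15, e19] at hmem
    rw [hmem]
    simp [ht]
  simp only [List.map_cons, List.map_nil, List.sum_cons, List.sum_nil, add_zero, Int.cast_neg, Int.cast_one,
    neg_one_mul, e16, map_add, map_neg]
  rw [← ht]
  have hf3 : X.f (X.f (X.f t)) = t := X.f_iter t
  rw [hf3]
  intro hh
  have e : X.f t = X.f (X.f t) := by linear_combination -hh
  exact hirr (X.f.injective e).symm

theorem inv_mem_params (hle : H ≤ X.G1) (hrat : ∀ g ∈ X.G1, phiG X.f chevD4 g = g → g ∈ H)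
    {s : K} (hs0 : s ≠ 0) (hs : X.y [17, 20, 21] s ∈ H) : X.y [17, 20, 21] s⁻¹ ∈ H := by
  obtain ⟨hlev, hl, habove, -⟩ := top_spec X top_ok
  have hc : [17, 20, 21] ∈ X.lev 2 := by rw [hlev]; exact List.mem_singleton_self _
  have hα : [18, 13, 12] ∈ X.lev 0 := List.mem_cons_self
  have ha1 : 1 < D4.tw.nO := by rw [word_up.2.2]; norm_num
  have ha0 : 0 < D4.tw.nO := by omega
  have hscale : ∀ {l t : K}, l ≠ 0 → X.f l = l → X.y [17, 20, 21] t ∈ H → X.y [17, 20, 21] (l * t) ∈ H :=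
    fun hl0 hfl ht => scale_mem hrat hc ha0 co_ok hl0 hfl hl ht
  obtain ⟨w1, w2, w3⟩ := word_down
  obtain ⟨n0, n1⟩ := cast_natAbs_one (F := K) w2
  set N : K := (D4.cert.sgnL (D4.tw.flat [1, 0]) 17 : K)
  have hNN : N * N = 1 := by
    show ((_ : ℤ) : K) * ((_ : ℤ) : K) = 1
    rw [← Int.cast_mul, ← Int.natAbs_mul_self' (a := D4.cert.sgnL (D4.tw.flat [1, 0]) 17), w2]
    simp
  let K0 : List (Fin D4.tw.nO) := [⟨1, ha1⟩, ⟨0, ha0⟩]
  obtain ⟨a', -, e1, e2⟩ := transport X hc hα K0 w3 (allowed_of_len X hc hl (N * s))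
  have ha' : a' = s := by
    rw [e2 w1]; show N * (N * s) = s
    rw [← mul_assoc, hNN, one_mul]
  rw [ha'] at e1
  have hn := hrat _ (X.N1_le_G1 (X.nW_mem_N1 K0)) (phiG_nL X.f X.S _)
  have hy : X.y [18, 13, 12] s ∈ H := by
    rw [← e1]; exact mul_mem (mul_mem hn (hscale n0 (n1 X.f) hs)) (inv_mem hn)
  have q14 : (14 : ℕ) < chevD4.nroots := by rw [comms.2.2.2.2.2.2]; norm_num
  have qlt : ∀ r, r < 24 → r < chevD4.nroots := fun r hr => by rw [comms.2.2.2.2.2.2]; exact hr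
  set v := X.f s
  set w := X.f (X.f s)
  set x := X.S.ok.xG (F := K)
  set a := X.S.ok.xG 18 s
  set b := X.S.ok.xG 13 v
  set c := X.S.ok.xG 12 w
  have e18 : X.eps 18 = 1 := show ((D4.tw.G.eps chevD4.rank 18 : ℤ) : K) = 1 by rw [eps_ok.1]; simp
  have e13 : X.eps 13 = 1 := show ((D4.tw.G.eps chevD4.rank 13 : ℤ) : K) = 1 by rw [eps_ok.2.1]; simp
  have hyabc : X.y [18, 13, 12] s = a * b * c := by
    simp [Tw.y, Tw.orbW, Ok.wG, e18, e13, a, b, c, v, w, mul_assoc]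
  -- the image in the middle class
  set E := X.S.ok.xG 19 s * X.S.ok.xG 16 (-v) * X.S.ok.xG 15 (-w)
  have hE : E ∈ H := by
    have hJ : X.nJ 1 * X.y [18, 13, 12] s * (X.nJ 1)⁻¹ = E := by
      obtain ⟨s1, s2, s3, s4, s5, s6, s7⟩ := sgn_ok
      have e := X.S.nL_conj_wG (F := K) (X.orbF 1) [(18, s), (13, v), (12, w)] (fun p hp => by
        simp only [List.mem_cons, List.not_mem_nil, or_false] at hp
        rcases hp with rfl | rfl | rfl <;> exact qlt _ (by norm_num))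
      rw [X.orbF_val ha1, s7] at e
      simp only [List.map_cons, List.map_nil, s1, s2, s3, s4, s5, s6] at e
      rw [hyabc]
      simp only [Ok.wG, List.map_cons, List.map_nil, List.prod_cons, List.prod_nil, mul_one,
        Int.cast_neg, Int.cast_one, one_mul, neg_one_mul] at e
      rw [show X.nJ 1 = X.S.nL K (X.orbF 1) from rfl]
      simpa [a, b, c, E, mul_assoc] using e
    rw [← hJ]
    have hJm := hrat _ (X.nJ_mem_G1 ha1) (phiG_nL X.f X.S _)
    exact mul_mem (mul_mem hJm hy) (inv_mem hJm)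
  set g := X.S.ok.xG 14 (1 : K)
  have hg : g ∈ H := hrat _ (xG_mem_G1 X hts.2.2.2.2.2 (by rw [comms.2.2.2.2.2.2]; norm_num) (map_one _))
    (by rw [phiG_xG X.f X.S, map_one])
  obtain ⟨t1, t2, t3, t4, t5, t6, t7⟩ := terms
  obtain ⟨k1, k2, k3, m14, m18, m13, -⟩ := comms
  have conj : ∀ {p r e : ℕ} {N : ℤ} (t u : K), p < 24 → r < 24 → r ≠ p → r ≠ chevD4.neg p →
      chevD4.commTerms p r = [(e, N, 1, 1)] →
      X.S.ok.xG p t * X.S.ok.xG r u * (X.S.ok.xG p t)⁻¹ = X.S.ok.xG r u * X.S.ok.xG e ((N : K) * t * u) := by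
    intro p r e N t u hp hr hne hn hterm
    rw [Subfield.conj_eq X.S (qlt p hp) (qlt r hr) hne hn]
    simp [ChevalleyDatum.commWord, hterm, Ok.wG]
  have hga : ⁅g, a⁆ = X.S.ok.xG 19 s := by
    rw [commutatorElement_def, conj 1 s (by norm_num) (by norm_num) (by norm_num) (by rw [m14]; norm_num) t1,
      (X.S.commute_of_commOK (qlt 18 (by norm_num)) (qlt 19 (by norm_num)) k1 s _).eq, mul_inv_cancel_right]
    simp
  have hgb : ⁅g, b⁆ = X.S.ok.xG 16 (-v) := by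
    rw [commutatorElement_def, conj 1 v (by norm_num) (by norm_num) (by norm_num) (by rw [m14]; norm_num) t2,
      (X.S.commute_of_commOK (qlt 13 (by norm_num)) (qlt 16 (by norm_num)) k2 v _).eq, mul_inv_cancel_right]
    simp
  have hgc : ⁅g, c⁆ = X.S.ok.xG 15 (-w) := by
    rw [commutatorElement_def, conj 1 w (by norm_num) (by norm_num) (by norm_num) (by rw [m14]; norm_num) t3,
      (X.S.commute_of_commOK (qlt 12 (by norm_num)) (qlt 15 (by norm_num)) k3 w _).eq, mul_inv_cancel_right]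
    simp
  have hab : a * X.S.ok.xG 16 (-v) * a⁻¹ = X.S.ok.xG 16 (-v) * X.S.ok.xG 21 (s * v) := by
    rw [conj s (-v) (by norm_num) (by norm_num) (by norm_num) (by rw [m18]; norm_num) t4]
    simp
  have hbc : b * X.S.ok.xG 15 (-w) * b⁻¹ = X.S.ok.xG 15 (-w) * X.S.ok.xG 17 (-(v * w)) := by
    rw [conj v (-w) (by norm_num) (by norm_num) (by norm_num) (by rw [m13]; norm_num) t5]
    simp
  have hac : a * X.S.ok.xG 15 (-w) * a⁻¹ = X.S.ok.xG 15 (-w) * X.S.ok.xG 20 (s * w) := by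
    rw [conj s (-w) (by norm_num) (by norm_num) (by norm_num) (by rw [m18]; norm_num) t6]
    simp
  have had : a * X.S.ok.xG 17 (-(v * w)) * a⁻¹ = X.S.ok.xG 17 (-(v * w)) * X.S.ok.xG 22 (s * (v * w)) := by
    rw [conj s (-(v * w)) (by norm_num) (by norm_num) (by norm_num) (by rw [m18]; norm_num) t7]
    simp
  set q21 := X.S.ok.xG 15 (-w) with hq15
  set Z := E⁻¹ * ⁅g, a * b * c⁆ with hZdef
  have hZ : Z = q21⁻¹ * X.S.ok.xG 21 (s * v) * q21 *
      (X.S.ok.xG 20 (s * w) * (X.S.ok.xG 17 (-(v * w)) * X.S.ok.xG 22 (s * (v * w)))) := by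
    have e : ⁅g, a * b * c⁆ = ⁅g, a⁆ * (a * ⁅g, b⁆ * a⁻¹) * (a * (b * ⁅g, c⁆ * b⁻¹) * a⁻¹) := by
      simp only [commutatorElement_def]; group
    rw [hZdef, e, hga, hgb, hgc, hab, hbc]
    rw [show a * (q21 * X.S.ok.xG 17 (-(v * w))) * a⁻¹ =
      (a * q21 * a⁻¹) * (a * X.S.ok.xG 17 (-(v * w)) * a⁻¹) by group, hac, had]
    simp only [E, ← hq15]
    group
  have hm3 : (1 : ℤ) ≤ 3 := by norm_num
  have hh : ∀ {r : ℕ}, TwDat.hsum chevD4 D4.htTab r = 3 → hgt chevD4 D4.htTab r = 3 := fun h => by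
    rw [hgt_eq_hsum]; exact h
  have hin : ∀ {r : ℕ} (t : K), r < 24 → 3 ≤ TwDat.hsum chevD4 D4.htTab r →
      X.S.ok.xG r t ∈ X.S.Uh D4.htTab K 3 := fun t hr h =>
    X.S.xG_mem_Uh (qlt _ hr) (by rw [hgt_eq_hsum]; exact h) t
  obtain ⟨h15, h17, h20, h21, h22, -⟩ := hts
  let r17 : Fin chevD4.nroots := ⟨17, qlt 17 (by norm_num)⟩
  have hr17 : hgt chevD4 D4.htTab r17.val ≤ 3 := (hh h17).le
  have hqU : q21⁻¹ ∈ chevD4.posUnipotent K := inv_mem (X.S.xG_mem_U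
    (by rw [comms.2.2.2.2.2.2]; norm_num) (qlt 15 (by norm_num)) _)
  obtain ⟨c1, c2⟩ := coef_conj X.S X.hT hqU hm3 r17 hr17 (hin (s * v) (r := 21) (by norm_num) h21.ge)
  rw [inv_inv] at c1 c2
  have d1 := hin (s * w) (r := 20) (by norm_num) h20.ge
  have d2 := hin (-(v * w)) (r := 17) (by norm_num) h17.ge
  have d3 := hin (s * (v * w)) (r := 22) (by norm_num) (by rw [h22]; norm_num)
  have hZU : Z ∈ X.S.Uh D4.htTab K 3 := by rw [hZ]; exact mul_mem c1 (mul_mem d1 (mul_mem d2 d3))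
  have hZc : X.cf Z 17 = -(v * w) := by
    rw [X.cf_of_lt _ r17.isLt, hZ, X.S.coef_mul X.hT hm3 r17 hr17 c1 (mul_mem d1 (mul_mem d2 d3)), c2,
      X.S.coef_mul X.hT hm3 r17 hr17 d1 (mul_mem d2 d3), X.S.coef_mul X.hT hm3 r17 hr17 d2 d3,
      X.S.coef_xG r17 (qlt 21 (by norm_num)), X.S.coef_xG r17 (qlt 20 (by norm_num)),
      X.S.coef_xG r17 (qlt 17 (by norm_num)), X.S.coef_xG r17 (qlt 22 (by norm_num))]
    simp [r17]
  have hZH : Z ∈ H := by
    rw [hZdef, commutatorElement_def, ← hyabc]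
    exact mul_mem (inv_mem hE) (mul_mem (mul_mem (mul_mem hg hy) (inv_mem hg)) (inv_mem hy))
  have htop := top_mem hle hrat single_ok hlev hl habove hZH hZU
  rw [show ([17, 20, 21] : List ℕ).headD 0 = 17 from rfl, hZc] at htop
  have hv0 : v ≠ 0 := (map_ne_zero X.f).2 hs0
  have hw0 : w ≠ 0 := (map_ne_zero X.f).2 hv0
  have hf3 : X.f w = s := X.f_iter s
  have hne : -(s * v * w)⁻¹ ≠ 0 := neg_ne_zero.2 (inv_ne_zero (mul_ne_zero (mul_ne_zero hs0 hv0) hw0))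
  have hfix : X.f (-(s * v * w)⁻¹) = -(s * v * w)⁻¹ := by
    rw [map_neg, map_inv₀, map_mul, map_mul, hf3, show X.f s = v from rfl, show X.f v = w from rfl]
    congr 2; ring
  have := hscale hne hfix htop
  rwa [show -(s * v * w)⁻¹ * -(v * w) = s⁻¹ by field_simp] at this

theorem grow (hle : H ≤ X.G1) (hrat : ∀ g ∈ X.G1, phiG X.f chevD4 g = g → g ∈ H)
    (hne : ∃ u ∈ H, u ∈ chevD4.posUnipotent K ∧ phiG X.f chevD4 u ≠ u) : X.G1 ≤ H := by
  obtain ⟨hlev, hl, habove, hnot⟩ := top_spec X top_ok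
  have hc : [17, 20, 21] ∈ X.lev 2 := by rw [hlev]; exact List.mem_singleton_self _
  obtain ⟨u, hu, hU, hirr⟩ := top_irr hle hrat hne single_ok (top := 2) (ctop := [17, 20, 21])
    fun k c hc' hl' => by
      rcases lt_trichotomy k 2 with hk | rfl | hk
      · refine Or.inr ⟨hk, fun u hu hU hirr => ?_⟩
        interval_cases k
        · have hc'' : c ∈ [[18, 13, 12], [14]] := hc'
          simp only [List.mem_cons, List.not_mem_nil, or_false] at hc''
          rcases hc'' with rfl | rfl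
          · exact step_of_ok hrat step_ok hu hU hirr
          · exact absurd hl' (by decide +kernel)
        · have hc'' : c ∈ [[15, 19, 16]] := hc'
          rw [List.mem_singleton] at hc''
          subst hc''
          exact step1 X hle hrat hc' hu hU hirr
      · rw [hlev, List.mem_singleton] at hc'
        exact Or.inl ⟨rfl, hc'⟩
      · exact absurd hl' (hnot k hk c hc')
  have ht : X.y [17, 20, 21] (X.cf u ([17, 20, 21].headD 0)) ∈ H :=
    top_mem hle hrat single_ok hlev hl habove hu hU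
  have hrat' : ∀ l, X.f l = l → X.y [17, 20, 21] l ∈ H := fun l hfl => by
    obtain ⟨g1, g2⟩ := y_rat X hc (allowed_of_len X hc hl l) hfl
    exact hrat _ g1 g2
  have ha0 : 0 < D4.tw.nO := by rw [word_up.2.2]; norm_num
  have hfull : ∀ t, t ∈ {t : K | X.y [17, 20, 21] t ∈ H} := full_of_three X rfl (hrat' 1 (map_one _))
    (hrat' 0 (map_zero _)) (fun s hs t ht => by
      show X.y [17, 20, 21] (s + t) ∈ H
      rw [← y_add X hc]; exact mul_mem hs ht)
    (fun l t hl0 hfl ht => scale_mem hrat hc ha0 co_ok hl0 hfl hl ht) ht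
    (inv_mem_params X hle hrat (fun e => hirr (by rw [e, map_zero])) ht) hirr
  refine G1_le_of_full hrat hlev hl hfull fun a ha hlen => ?_
  obtain rfl : a = 0 := by
    rw [word_up.2.2] at ha
    rcases (show a = 0 ∨ a = 1 by omega) with rfl | rfl
    · rfl
    · rw [word_up.2.1] at hlen; exact absurd hlen (by decide +kernel)
  exact ⟨[⟨0, ha0⟩, ⟨1, by rw [word_up.2.2]; norm_num⟩], word_up.1⟩

theorem maximal {M : CoxeterMatrix (Fin D4.tw.nO)} (hM : X.RelOK M) (hle : H ≤ X.G1)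
    (hrat : ∀ g ∈ X.G1, phiG X.f chevD4 g = g → g ∈ H) :
    (∀ g ∈ H, phiG X.f chevD4 g = g) ∨ H = X.G1 :=
  dichotomy hM D4_lin D4_pts D4_witC (by decide +kernel) Cfsg.Lib.Chev.D4.tw_opp hle hrat (grow X hle hrat)

theorem moving : ∃ g ∈ X.G1, phiG X.f chevD4 g ≠ g := by
  obtain ⟨hlev, hl, -, -⟩ := top_spec X top_ok
  exact exists_moving X (k := 2) (c := [17, 20, 21]) (by rw [hlev]; exact List.mem_singleton_self _) hl

end Cfsg.Lib.TwSub.D4
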