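import Cfsg.Agent.Chev.TwSub.Final
import Cfsg.Agent.Steinberg.Linear

/-! The subfield points of ²E₆ are maximal. -/

set_option autoImplicit false

open Cfsg.Lie Cfsg.Lib.Steinberg

namespace Cfsg.Lib.TwSub.E6

open Cfsg.Lib.Chev

theorem single_ok : okSingle E6.tw chevE6 = true := by decide +kernel

theorem top_ok : okTop E6.tw 7 [66, 68] = true := by decide +kernel

theorem step_ok : kall (fun k => kall (fun c => !Nat.beq c.length 2 || okStep E6.tw chevE6 E6.cert E6.htTab k c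
    [(56, 1, 57, -1), (42, 0, 57, 1), (38, 2, 41, 1), (40, 0, 41, -1), (41, 1, 45, 1), (48, 0, 49, -1),
      (45, 3, 52, -1), (49, 1, 52, -1), (52, 2, 54, -1), (54, 1, 55, -1), (55, 0, 66, 1)])
    (E6.tw.lv.getD k [])) (krange 0 7) = true := by decide +kernel

theorem co_ok : ksumI (kmap (fun i => E6.cert.cart i 66) (E6.tw.orbAt 0)) = 1 := by decide +kernel

theorem word_ok : kall (fun a => !Nat.beq (E6.tw.orbAt a).length 2 || kex (fun K =>
    kall (fun b => Nat.blt b E6.tw.nO) K &&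
    decide ((kmap (fun s => E6.cert.wL (E6.tw.flat K) s) (kmap E6.cert.sr (E6.tw.orbAt a))).Perm [66, 68]))
    [[0, 1, 2, 3, 1, 2, 1], [0, 1, 2, 3, 1, 2, 0]]) (krange 0 E6.tw.nO) = true := by decide +kernel

variable {K : Type*} [Field K] (X : Tw chevE6 chevF4 E6.cert F4.cert E6.tw E6.htTab K)
  {H : Subgroup (GL chevE6.Idx K)}

theorem grow (hle : H ≤ X.G1) (hrat : ∀ g ∈ X.G1, phiG X.f chevE6 g = g → g ∈ H)
    (hne : ∃ u ∈ H, u ∈ chevE6.posUnipotent K ∧ phiG X.f chevE6 u ≠ u) : X.G1 ≤ H := by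
  obtain ⟨hlev, hl, habove, hnot⟩ := top_spec X top_ok
  have hc : [66, 68] ∈ X.lev 7 := by rw [hlev]; exact List.mem_singleton_self _
  obtain ⟨u, hu, hU, hirr⟩ := top_irr hle hrat hne single_ok (top := 7) (ctop := [66, 68]) fun k c hc' hl' => by
    rcases lt_trichotomy k 7 with hk | rfl | hk
    · refine Or.inr ⟨hk, fun u hu hU hirr => ?_⟩
      have h := (kall_iff _ _).1 (kall_krange step_ok k hk) c hc'
      rw [show c.length = 2 from hl', Nat.beq_refl, Bool.not_true, Bool.false_or] at h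
      exact step_of_ok hrat h hu hU hirr
    · rw [hlev, List.mem_singleton] at hc'
      exact Or.inl ⟨rfl, hc'⟩
    · exact absurd hl' (hnot k hk c hc')
  have ht : X.y [66, 68] (X.cf u ([66, 68].headD 0)) ∈ H :=
    top_mem hle hrat single_ok hlev hl habove hu hU
  have hrat' : ∀ l, X.f l = l → X.y [66, 68] l ∈ H := fun l hfl => by
    obtain ⟨g1, g2⟩ := y_rat X hc (allowed_of_len X hc hl l) hfl
    exact hrat _ g1 g2
  have hfull : ∀ t, t ∈ {t : K | X.y [66, 68] t ∈ H} := full_of_two X rfl (hrat' 1 (map_one _))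
    (hrat' 0 (map_zero _)) (fun s hs t ht => by
      show X.y [66, 68] (s + t) ∈ H
      rw [← y_add X hc]; exact mul_mem hs ht)
    (fun l t hl0 hfl ht => scale_mem hrat hc (a := 0) (by decide +kernel) co_ok hl0 hfl hl ht) ht hirr
  refine G1_le_of_full hrat hlev hl hfull fun a ha hlen => ?_
  have h := kall_krange word_ok a ha
  rw [show (E6.tw.orbAt a).length = 2 from hlen, Nat.beq_refl, Bool.not_true, Bool.false_or, kex_iff] at h
  obtain ⟨L, -, hL⟩ := h
  simp only [Bool.and_eq_true, decide_eq_true_eq, kall_iff, Nat.blt] at hL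
  refine ⟨L.pmap (fun b hb => (⟨b, hb⟩ : Fin E6.tw.nO)) fun b hb => Nat.le_of_ble_eq_true (hL.1 b hb), ?_⟩
  rw [List.map_pmap]
  simp only [List.pmap_eq_map, List.map_id']
  have := hL.2
  rwa [kmap_eq] at this

theorem maximal {M : CoxeterMatrix (Fin E6.tw.nO)} (hM : X.RelOK M) (hle : H ≤ X.G1)
    (hrat : ∀ g ∈ X.G1, phiG X.f chevE6 g = g → g ∈ H) :
    (∀ g ∈ H, phiG X.f chevE6 g = g) ∨ H = X.G1 :=
  dichotomy hM E6_lin E6_pts E6_witC (by decide +kernel) Cfsg.Lib.Chev.E6.tw_opp hle hrat (grow X hle hrat)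

theorem moving : ∃ g ∈ X.G1, phiG X.f chevE6 g ≠ g := by
  obtain ⟨hlev, hl, -, -⟩ := top_spec X top_ok
  exact exists_moving X (k := 7) (c := [66, 68]) (by rw [hlev]; exact List.mem_singleton_self _) hl

end Cfsg.Lib.TwSub.E6
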