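import Cfsg.Agent.Chev.TwSub.Grow

/-! The dichotomy for overgroups of the subfield points. -/

set_option autoImplicit false

open Cfsg.Lie Cfsg.Lib.Steinberg

namespace Cfsg.Lib.TwSub

open Cfsg.Lib.Chev

/-- The top short class and the classes above it. -/
noncomputable def okTop (W : TwDat) (top : ℕ) (ctop : List ℕ) : Bool :=
  listBeq (listBeq Nat.beq) (W.lv.getD top []) [ctop] && Nat.beq ctop.length W.m &&
  kall (fun j => Nat.ble j top || kall (fun c => Nat.beq c.length 1) (W.lv.getD j [])) (krange 0 W.lv.length) &&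
  kall (fun j => Nat.ble j top || kall (fun c => !Nat.beq c.length W.m) (W.lv.getD j [])) (krange 0 W.lv.length)

variable {D D' : ChevalleyDatum} {C C' : Cert} {W : TwDat} {T : List (List ℤ)} {F : Type*} [Field F]
  {X : Tw D D' C C' W T F}

theorem top_spec (X : Tw D D' C C' W T F) {top : ℕ} {ctop : List ℕ} (h : okTop W top ctop = true) :
    X.lev top = [ctop] ∧ ctop.length = W.m ∧ (∀ j, top < j → ∀ c ∈ X.lev j, c.length = 1) ∧
      ∀ j, top < j → ∀ c ∈ X.lev j, c.length ≠ W.m := by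
  simp only [okTop, Bool.and_eq_true] at h
  obtain ⟨⟨⟨h1, h2⟩, h3⟩, h4⟩ := h
  have hj : ∀ (P : List ℕ → Bool), kall (fun j => Nat.ble j top || kall P (W.lv.getD j [])) (krange 0 W.lv.length) =
      true → ∀ j, top < j → ∀ c ∈ X.lev j, P c = true := by
    intro P hP j hj c hc
    by_cases hjl : j < W.lv.length
    · have := kall_krange hP j hjl
      simp only [Bool.or_eq_true, Nat.ble_eq] at this
      rcases this with e | e
      · omega
      · exact (kall_iff _ _).1 e c hc
    · rw [Tw.lev, List.getD_eq_default _ _ (not_lt.1 hjl)] at hc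
      exact absurd hc List.not_mem_nil
  refine ⟨listBeq_eq (fun _ _ => listBeq_eq fun _ _ => Nat.eq_of_beq_eq_true) h1, Nat.eq_of_beq_eq_true h2,
    fun j hjt c hc => Nat.eq_of_beq_eq_true (hj _ h3 j hjt c hc), fun j hjt c hc => ?_⟩
  have := hj _ h4 j hjt c hc
  simp only [Bool.not_eq_true'] at this
  exact Nat.ne_of_beq_eq_false this

/-- Either rational or everything. -/
theorem dichotomy {M : CoxeterMatrix (Fin W.nO)} (hM : X.RelOK M) (hl : okLin D C T = true)
    {Fx : List (ℕ × ℕ × ℕ)} (hP : okPts W D C T Fx = true) {Wt : List (ℕ × ℕ × ℕ × List ℕ)}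
    (hW : okWitC W D C T Fx Wt = true) (hlen : ∀ q ∈ Wt, q.2.2.2.length = W.m) {K : List ℕ}
    (hK : W.okOpp1 D.nroots C K = true) {H : Subgroup (GL D.Idx F)} (hle : H ≤ X.G1)
    (hrat : ∀ g ∈ X.G1, phiG X.f D g = g → g ∈ H)
    (hgrow : (∃ u ∈ H, u ∈ D.posUnipotent F ∧ phiG X.f D u ≠ u) → X.G1 ≤ H) :
    (∀ g ∈ H, phiG X.f D g = g) ∨ H = X.G1 := by
  by_cases h : ∃ u ∈ H, u ∈ D.posUnipotent F ∧ phiG X.f D u ≠ u
  · exact Or.inr (le_antisymm hle (hgrow h))
  · push Not at h
    obtain ⟨K0, hK0⟩ := X.opp_of_ok hK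
    exact Or.inl fun g hg => le_fixed hM hl ⟨hle, hrat, h⟩ hP hW hlen hK0 hg

/-- A class with a moving parameter gives an irrational element. -/
theorem exists_moving (X : Tw D D' C C' W T F) {k : ℕ} {c : List ℕ} (hc : c ∈ X.lev k) (hl : c.length = W.m) :
    ∃ g ∈ X.G1, phiG X.f D g ≠ g := by
  haveI : Finite F := X.finite
  obtain ⟨t, ht⟩ : ∃ t, X.f t ≠ t := by
    by_contra h
    push Not at h
    have hm := X.hm
    have e := card_pow_eq_self (F := F) X.hq (by omega) X.hfq X.hcard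
    rw [Nat.card_congr (Equiv.subtypeUnivEquiv h), X.hcard] at e
    have := Nat.pow_right_injective X.hq (show X.q ^ W.m = X.q ^ 1 by rw [pow_one]; exact e)
    omega
  have ha := allowed_of_len X hc hl t
  refine ⟨X.y c t, X.cls_mem_G1 k c hc t ha, fun h => ht ?_⟩
  rw [(phi_y X c t).1] at h
  rw [← (X.cf_y hc hc (X.f t)).1 rfl, h, (X.cf_y hc hc t).1 rfl]

end Cfsg.Lib.TwSub
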